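import Cfsg.Agent.Helper77.Br43.PGDefs

/-!
# (W12) of #7073 for helper77 (S0996): the double count `sum_card_invol` (PG7b)
-/

set_option autoImplicit false

namespace Cfsg.Agent.Helper62.BrPG

open Cfsg.Agent.Helper77.BrPG
open scoped Pointwise

universe u

/-- generic: a `finsum` of cardinalities of fibres is the cardinality of the total space. -/
theorem finsum_mem_card_fibre {α β : Type*} [Finite α] [Finite β] (s : Set α)
    (R : α → β → Prop) :
    ∑ᶠ a ∈ s, Nat.card {b : β // R a b} =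
      Nat.card {ab : α × β // ab.1 ∈ s ∧ R ab.1 ab.2} := by
  classical
  have : Fintype α := Fintype.ofFinite α
  have : Fintype s := Fintype.ofFinite s
  rw [← finsum_set_coe_eq_finsum_mem, finsum_eq_sum_of_fintype, ← Nat.card_sigma]
  refine Nat.card_congr ?_
  exact
    { toFun := fun x => ⟨(x.1.1, x.2.1), x.1.2, x.2.2⟩
      invFun := fun y => ⟨⟨y.1.1, y.2.1⟩, ⟨y.1.2, y.2.2⟩⟩
      left_inv := fun x => rfl
      right_inv := fun y => rfl }

variable {G : Type u} [Group G] [Finite G] {p : ℕ} [Fact p.Prime]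

/-- (PG7b) double count: `Σ_{(Q,Q'), Q ≠ Q'} #{g invol, g Q = Q'} = Σ_{g invol} #{Q : g Q ≠ Q}` -/
theorem sum_card_invol :
    ∑ᶠ QQ ∈ {QQ : Sylow p G × Sylow p G | QQ.1 ≠ QQ.2},
      Nat.card {g : G // orderOf g = 2 ∧ g • QQ.1 = QQ.2} =
    ∑ᶠ g ∈ {g : G | orderOf g = 2}, Nat.card {Q : Sylow p G // g • Q ≠ Q} := by
  rw [finsum_mem_card_fibre {QQ : Sylow p G × Sylow p G | QQ.1 ≠ QQ.2}
      (fun QQ g => orderOf g = 2 ∧ g • QQ.1 = QQ.2),
    finsum_mem_card_fibre {g : G | orderOf g = 2} (fun g (Q : Sylow p G) => g • Q ≠ Q)]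
  refine Nat.card_congr ?_
  exact
    { toFun := fun x => ⟨(x.1.2, x.1.1.1), x.2.2.1, by
        have h1 : x.1.1.1 ≠ x.1.1.2 := x.2.1
        have h2 : x.1.2 • x.1.1.1 = x.1.1.2 := x.2.2.2
        show x.1.2 • x.1.1.1 ≠ x.1.1.1
        rw [h2]; exact h1.symm⟩
      invFun := fun y => ⟨((y.1.2, y.1.1 • y.1.2), y.1.1), by
        have h1 : orderOf y.1.1 = 2 := y.2.1
        have h2 : y.1.1 • y.1.2 ≠ y.1.2 := y.2.2
        exact ⟨h2.symm, h1, rfl⟩⟩
      left_inv := fun x => by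
        have h2 : x.1.2 • x.1.1.1 = x.1.1.2 := x.2.2.2
        apply Subtype.ext
        apply Prod.ext
        · apply Prod.ext
          · rfl
          · exact h2
        · rfl
      right_inv := fun y => rfl }

end Cfsg.Agent.Helper62.BrPG
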