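import Cfsg.Agent.Helper77.Br43.PGDefs
import Cfsg.Agent.Helper5.BrPG.W1

/-!
# (W11) of #7073 for helper77 (S0996): PG7a, the involutions mapping `P` to `Q`

`h5a` is (PG5a) `IsBr.normalizer_Ez_inf` at `P`, taken as a hypothesis.
-/

set_option autoImplicit false

namespace Cfsg.Agent.Helper62.BrPG

open Cfsg.Agent.Helper77.BrPG
open scoped Pointwise

universe u

variable {G : Type u} [Group G] [Finite G] {p : ℕ} [Fact p.Prime]

/-- an involution swapping `P` and `Q` normalizes `N(P) ∩ N(Q)`. -/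
theorem invol_mem_normalizer_Ez (P Q : Sylow p G) (g : G) (hg : orderOf g = 2)
    (hgP : g • P = Q) : g ∈ Subgroup.normalizer ((Ez P Q : Subgroup G) : Set G) := by
  have hg2 : g * g = 1 := by
    have := pow_orderOf_eq_one g
    rwa [hg, pow_two] at this
  have hinv : g⁻¹ = g := inv_eq_of_mul_eq_one_left hg2
  have hgQ : g • Q = P := by
    rw [← hgP, ← mul_smul, hg2, one_smul]
  rw [Subgroup.mem_normalizer_iff]
  intro x
  have key : ∀ (A B : Sylow p G), g • A = B → g • B = A → (x ∈ Nz A ↔ g * x * g⁻¹ ∈ Nz B) := by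
    intro A B hAB hBA
    rw [Cfsg.Agent.Helper5.BrPG.mem_Nz_iff, Cfsg.Agent.Helper5.BrPG.mem_Nz_iff, hinv, mul_smul,
      mul_smul, hBA]
    constructor
    · intro h; rw [h, hAB]
    · intro h
      have h2 : g • (g • x • A) = g • B := by rw [h]
      rwa [← mul_smul, hg2, one_smul, hBA] at h2
  show x ∈ Nz P ⊓ Nz Q ↔ g * x * g⁻¹ ∈ Nz P ⊓ Nz Q
  rw [Subgroup.mem_inf, Subgroup.mem_inf, key P Q hgP hgQ, key Q P hgQ hgP, and_comm]

/-- the key: two elements of `N_G(E)` mapping `P` to `Q` differ by an element of `E`. -/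
theorem inv_mul_mem_Ez (P Q : Sylow p G)
    (h5a : Subgroup.normalizer ((Ez P Q : Subgroup G) : Set G) ⊓ Nz P = Ez P Q) (g l : G)
    (hg : g ∈ Subgroup.normalizer ((Ez P Q : Subgroup G) : Set G))
    (hl : l ∈ Subgroup.normalizer ((Ez P Q : Subgroup G) : Set G))
    (hgP : g • P = Q) (hlP : l • P = Q) : g⁻¹ * l ∈ Ez P Q := by
  rw [← h5a, Subgroup.mem_inf]
  refine ⟨Subgroup.mul_mem _ (Subgroup.inv_mem _ hg) hl, ?_⟩
  rw [Cfsg.Agent.Helper5.BrPG.mem_Nz_iff, mul_smul, hlP, ← hgP, inv_smul_smul]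

/-- (PG7a), first half, with (PG5a) at `P, Q` as hypothesis. -/
theorem IsBr.card_invol_le' {P : Sylow p G} {e n : ℕ} (h : IsBr P e n) (Q : Sylow p G)
    (hQ : Q ≠ P)
    (h5a : Subgroup.normalizer ((Ez P Q : Subgroup G) : Set G) ⊓ Nz P = Ez P Q) :
    Nat.card {g : G // orderOf g = 2 ∧ g • P = Q} ≤ e := by
  by_cases hne : Nonempty {g : G // orderOf g = 2 ∧ g • P = Q}
  · obtain ⟨⟨g₀, hg₀, hg₀P⟩⟩ := hne
    have hg₀N := invol_mem_normalizer_Ez P Q g₀ hg₀ hg₀P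
    rw [← h.two Q hQ]
    refine Nat.card_le_card_of_injective
      (fun g : {g : G // orderOf g = 2 ∧ g • P = Q} =>
        (⟨g₀⁻¹ * g.1, inv_mul_mem_Ez P Q h5a g₀ g.1 hg₀N
          (invol_mem_normalizer_Ez P Q g.1 g.2.1 g.2.2) hg₀P g.2.2⟩ : Ez P Q)) ?_
    intro a b hab
    have := congrArg Subtype.val hab
    exact Subtype.ext (mul_left_cancel this)
  · rw [not_nonempty_iff] at hne
    rw [Nat.card_of_isEmpty]
    exact Nat.zero_le _

/-- (PG7a), second half, with (PG5a) at `P, Q` as hypothesis. -/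
theorem IsBr.orderOf_eq_two_of_card_invol' {P : Sylow p G} {e n : ℕ} (h : IsBr P e n)
    (Q : Sylow p G) (hQ : Q ≠ P)
    (h5a : Subgroup.normalizer ((Ez P Q : Subgroup G) : Set G) ⊓ Nz P = Ez P Q)
    (hcard : Nat.card {g : G // orderOf g = 2 ∧ g • P = Q} = e) (l : G)
    (hl : l ∈ Subgroup.normalizer ((Ez P Q : Subgroup G) : Set G)) (hlQ : l • P = Q) :
    orderOf l = 2 := by
  have hne : Nonempty {g : G // orderOf g = 2 ∧ g • P = Q} := by
    by_contra hcon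
    rw [not_nonempty_iff] at hcon
    rw [Nat.card_of_isEmpty] at hcard
    have := h.he
    omega
  obtain ⟨⟨g₀, hg₀, hg₀P⟩⟩ := hne
  have hg₀N := invol_mem_normalizer_Ez P Q g₀ hg₀ hg₀P
  let φ : {g : G // orderOf g = 2 ∧ g • P = Q} → Ez P Q := fun g =>
    ⟨g₀⁻¹ * g.1, inv_mul_mem_Ez P Q h5a g₀ g.1 hg₀N
      (invol_mem_normalizer_Ez P Q g.1 g.2.1 g.2.2) hg₀P g.2.2⟩
  have hinj : Function.Injective φ := by
    intro a b hab
    have := congrArg Subtype.val hab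
    exact Subtype.ext (mul_left_cancel this)
  have hbij : Function.Bijective φ := by
    rw [Nat.bijective_iff_injective_and_card]
    exact ⟨hinj, by rw [hcard, h.two Q hQ]⟩
  obtain ⟨g, hg⟩ := hbij.2 ⟨g₀⁻¹ * l, inv_mul_mem_Ez P Q h5a g₀ l hg₀N hl hg₀P hlQ⟩
  have h1 : g₀⁻¹ * g.1 = g₀⁻¹ * l := congrArg Subtype.val hg
  have h2 : g.1 = l := mul_left_cancel h1
  rw [← h2]
  exact g.2.1

/-- (PG7a) with (PG5a) in ∀-closed form at `P`. -/
theorem IsBr.card_invol_le {P : Sylow p G} {e n : ℕ} (h : IsBr P e n)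
    (h5a : ∀ Q : Sylow p G, Q ≠ P →
      Subgroup.normalizer ((Ez P Q : Subgroup G) : Set G) ⊓ Nz P = Ez P Q)
    (Q : Sylow p G) (hQ : Q ≠ P) :
    Nat.card {g : G // orderOf g = 2 ∧ g • P = Q} ≤ e :=
  IsBr.card_invol_le' h Q hQ (h5a Q hQ)

theorem IsBr.orderOf_eq_two_of_card_invol {P : Sylow p G} {e n : ℕ} (h : IsBr P e n)
    (h5a : ∀ Q : Sylow p G, Q ≠ P →
      Subgroup.normalizer ((Ez P Q : Subgroup G) : Set G) ⊓ Nz P = Ez P Q)
    (Q : Sylow p G)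
    (hQ : Q ≠ P) (hcard : Nat.card {g : G // orderOf g = 2 ∧ g • P = Q} = e) (l : G)
    (hl : l ∈ Subgroup.normalizer ((Ez P Q : Subgroup G) : Set G)) (hlQ : l • P = Q) :
    orderOf l = 2 :=
  IsBr.orderOf_eq_two_of_card_invol' h Q hQ (h5a Q hQ) hcard l hl hlQ

end Cfsg.Agent.Helper62.BrPG
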